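import Groth.Agent.Lib.DivDesc12.Stalk
import Mathlib.RingTheory.Ideal.UFD
import Mathlib.RingTheory.Nakayama
import Mathlib.RingTheory.Ideal.MinimalPrime.Noetherian
import Mathlib.RingTheory.Nilpotent.Lemmas
import Mathlib.RingTheory.Localization.FractionRing

/-!
# Locally factorial schemes: regularly immersed divisors
-/

universe u

set_option linter.style.haveILetI false

open CategoryTheory Limits AlgebraicGeometry TopologicalSpace IsLocalRing

namespace Groth.Agent.LocFact12

open DivDesc12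

theorem isDomain_of_principal_height_one {B : Type u} [CommRing B] [IsLocalRing B] [IsNoetherianRing B]
    {P : Ideal B} [P.IsPrime] (hP : P.height = 1) {t : B}
    (ht : P = Ideal.span {t}) : IsDomain B := by
  obtain ⟨q, hq, hqP⟩ := Ideal.exists_minimalPrimes_le (bot_le : (⊥ : Ideal B) ≤ P)
  haveI := hq.isPrime
  have hne : q ≠ P := fun e => by
    have : P.height = 0 := Ideal.height_eq_zero_iff.2 (e ▸ hq)
    rw [hP] at this; exact one_ne_zero this
  have htq : t ∉ q := fun h => hne (le_antisymm hqP (ht ▸ (Ideal.span_singleton_le_iff_mem _).2 h))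
  have hle : q ≤ maximalIdeal B • q := by
    intro a ha
    obtain ⟨b, hb⟩ := Ideal.mem_span_singleton'.1 (ht ▸ hqP ha)
    have hbq : b ∈ q := (hq.isPrime.mem_or_mem (hb ▸ ha : b * t ∈ q)).resolve_right htq
    rw [← hb, mul_comm]
    exact Submodule.smul_mem_smul (le_maximalIdeal (Ideal.IsPrime.ne_top ‹P.IsPrime›)
      (ht ▸ Ideal.mem_span_singleton_self t)) hbq
  have hbot : q = ⊥ := Submodule.eq_bot_of_le_smul_of_le_jacobson_bot _ _ (IsNoetherian.noetherian _) hle
    (IsLocalRing.maximalIdeal_le_jacobson _)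
  haveI : (⊥ : Ideal B).IsPrime := hbot ▸ hq.isPrime
  exact IsDomain.of_bot_isPrime B

theorem exists_height_one {B : Type u} [CommRing B] [IsNoetherianRing B] {Q : Ideal B} [Q.IsPrime]
    (hQ : Q.height ≠ 0) : ∃ P : Ideal B, P.IsPrime ∧ P.height = 1 := by
  let S : Set ℕ∞ := {n | n ≠ 0 ∧ ∃ P : Ideal B, P.IsPrime ∧ P.height = n}
  obtain ⟨n, ⟨hn, P, hP, hPn⟩, hmin⟩ := wellFounded_lt.has_min S ⟨_, hQ, Q, inferInstance, rfl⟩
  refine ⟨P, hP, le_antisymm ?_ (Order.one_le_iff_ne_zero.2 (hPn ▸ hn))⟩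
  haveI := hP
  refine (Ideal.height_le_iff (n := 1)).2 fun q hq hqP => ?_
  haveI := hq
  have hlt : q.height < P.height := Ideal.height_strict_mono_of_isPrime hqP
  have : q.height = 0 := by
    by_contra h0
    exact hmin q.height ⟨h0, q, hq, rfl⟩ (hPn ▸ hlt)
  rw [this]; exact zero_lt_one

variable {X : Scheme.{u}}

theorem isLocalization_sp {x' x : X} (h : x' ⤳ x) :
    letI := (sp h).toAlgebra
    IsLocalization.AtPrime (X.presheaf.stalk x') (primeAt h) := by
  letI := (sp h).toAlgebra
  refine ⟨⟨?_, ?_, ?_⟩⟩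
  · rintro ⟨z, hz⟩
    exact not_not.1 fun hn => hz ((mem_primeAt h).2 hn)
  · intro e
    obtain ⟨z, b, hz, hzb⟩ := exists_fraction h e
    exact ⟨⟨b, ⟨z, fun hm => (mem_primeAt h).1 hm hz⟩⟩, by rw [mul_comm]; exact hzb⟩
  · intro a b hab
    obtain ⟨z, hz, hz'⟩ := exists_mul_mem h ⊥ (a - b) (by
      rw [Ideal.map_bot, Submodule.mem_bot, map_sub, sub_eq_zero]; exact hab)
    exact ⟨⟨z, fun hm => (mem_primeAt h).1 hm hz⟩,
      sub_eq_zero.1 (by rw [← mul_sub]; exact (Submodule.mem_bot _).1 hz')⟩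

theorem ringKrullDim_eq_height {x' x : X} (h : x' ⤳ x) :
    ringKrullDim (X.presheaf.stalk x') = (primeAt h).height := by
  letI := (sp h).toAlgebra
  haveI := isLocalization_sp h
  exact IsLocalization.AtPrime.ringKrullDim_eq_height (primeAt h) _

/-- Near a maximal point of a locally Noetherian scheme there is no other maximal point. -/
theorem exists_open_unique_maximal [IsLocallyNoetherian X] {x : X} (hx : ∀ z : X, z ⤳ x → z = x) :
    ∃ W : X.Opens, x ∈ W ∧ ∀ z ∈ W, ∀ η, η ⤳ z → (∀ w, w ⤳ η → w = η) → η = x := by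
  obtain ⟨U, hU, hxU⟩ := exists_affine x
  haveI : IsNoetherianRing Γ(X, U) := IsLocallyNoetherian.component_noetherian ⟨U, hU⟩
  let S : Set X := {η | η ≠ x ∧ ∃ hη : η ∈ U, (hU.primeIdealOf ⟨η, hη⟩).asIdeal ∈ minimalPrimes Γ(X, U)}
  have hfin : S.Finite := by
    refine (((minimalPrimes.finite_of_isNoetherianRing Γ(X, U)).preimage
      (f := PrimeSpectrum.asIdeal) (fun _ _ _ _ h => PrimeSpectrum.ext h)).image hU.fromSpec).subset ?_
    rintro η ⟨-, hη, hmin⟩
    exact ⟨_, hmin, hU.fromSpec_primeIdealOf ⟨η, hη⟩⟩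
  refine ⟨U ⊓ ⟨(⋃ η ∈ S, closure {η})ᶜ, (hfin.isClosed_biUnion fun _ _ => isClosed_closure).isOpen_compl⟩,
    ⟨hxU, ?_⟩, ?_⟩
  · simp only [Opens.coe_mk, Set.mem_compl_iff, Set.mem_iUnion, not_exists]
    intro η hη hc
    exact hη.1 (hx η (specializes_iff_mem_closure.2 hc))
  · rintro z ⟨hzU, hz⟩ η hηz hmax
    by_contra hne
    have hηU := hηz.mem_open U.2 hzU
    refine hz (Set.mem_iUnion₂.2 ⟨η, ⟨hne, hηU, ?_⟩, specializes_iff_mem_closure.1 hηz⟩)
    obtain ⟨q, hq, hqle⟩ := Ideal.exists_minimalPrimes_le (bot_le : (⊥ : Ideal Γ(X, U)) ≤ (hU.primeIdealOf ⟨η, hηU⟩).asIdeal)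
    let Q : PrimeSpectrum Γ(X, U) := ⟨q, hq.isPrime⟩
    have hm : hU.fromSpec Q ∈ U := hU.range_fromSpec.le ⟨_, rfl⟩
    have hQ : hU.primeIdealOf ⟨_, hm⟩ = Q :=
      hU.fromSpec.isOpenEmbedding.injective (hU.fromSpec_primeIdealOf _)
    have hs : hU.fromSpec Q ⤳ η := by rw [specializes_iff hU hm hηU, hQ]; exact hqle
    have heq := hmax _ hs
    have : hU.primeIdealOf ⟨η, hηU⟩ = Q := by
      rw [← hQ]; congr 1; exact Subtype.ext heq.symm
    rw [this]; exact hq

theorem regularly_immersed_iff_factorial [IsLocallyNoetherian X]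
    (hred : ∀ x : ↥X, IsOpen ({x} : Set ↥X) → IsReduced ↑(X.presheaf.stalk x)) :
    (∀ ζ : ↥X, ringKrullDim ↑(X.presheaf.stalk ζ) = 1 → ∀ (x : ↥X) (h : ζ ⤳ x),
        ∃ t : ↑(X.presheaf.stalk x), t ∈ nonZeroDivisors ↑(X.presheaf.stalk x) ∧
          (IsLocalRing.maximalIdeal ↑(X.presheaf.stalk ζ)).comap (X.presheaf.stalkSpecializes h).hom =
            Ideal.span {t}) ↔
      ∀ x : ↥X, ∃ _ : IsDomain ↑(X.presheaf.stalk x), UniqueFactorizationMonoid ↑(X.presheaf.stalk x) := by
  constructor
  · intro hyp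
    have hone : ∀ (x : X) (P : Ideal (X.presheaf.stalk x)) [P.IsPrime], P.height = 1 →
        ∃ t ∈ nonZeroDivisors (X.presheaf.stalk x), P = Ideal.span {t} := by
      intro x P _ hP
      obtain ⟨ζ, h, rfl⟩ := exists_primeAt_eq x P
      exact hyp ζ (by rw [ringKrullDim_eq_height h, hP]; rfl) x h
    have hdom : ∀ x : X, IsDomain (X.presheaf.stalk x) := by
      intro x
      by_cases h0 : (maximalIdeal (X.presheaf.stalk x)).height = 0
      · have hmax : ∀ z, z ⤳ x → z = x := by
          intro z hz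
          by_contra hn
          have h1 := ringKrullDim_stalk_lt hz hn
          rw [← IsLocalRing.maximalIdeal_height_eq_ringKrullDim (R := X.presheaf.stalk x), h0] at h1
          exact (lt_of_le_of_lt ringKrullDim_nonneg_of_nontrivial h1).false
        obtain ⟨W, hxW, hW⟩ := exists_open_unique_maximal hmax
        by_cases hall : (W : Set X) = {x}
        · haveI := hred x (hall ▸ W.2)
          haveI : Ring.KrullDimLE 0 (X.presheaf.stalk x) := Ring.krullDimLE_iff.2 (by
            rw [← IsLocalRing.maximalIdeal_height_eq_ringKrullDim (R := X.presheaf.stalk x), h0]; rfl)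
          exact IsField.isDomain Ring.KrullDimLE.isField_of_isReduced
        · obtain ⟨z, hzW, hzx⟩ : ∃ z ∈ W, z ≠ x := by
            by_contra hc
            push Not at hc
            exact hall (Set.eq_singleton_iff_unique_mem.2 ⟨hxW, hc⟩)
          have hgen : ∀ η, η ⤳ z → x ⤳ η := by
            intro η hη
            obtain ⟨q, hq, -⟩ := Ideal.exists_minimalPrimes_le
              (bot_le : (⊥ : Ideal (X.presheaf.stalk η)) ≤ maximalIdeal _)
            haveI := hq.isPrime
            obtain ⟨η₀, h₀, rfl⟩ := exists_primeAt_eq η q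
            rw [← hW z hzW η₀ (h₀.trans hη) (fun w hw => eq_of_primeAt_eq h₀ (hw.trans h₀) (by
              refine le_antisymm ?_ (hq.2 ⟨inferInstance, bot_le⟩ ?_) <;>
                (intro a ha; rw [mem_primeAt] at ha ⊢; intro hu; apply ha;
                 rw [← sp_comp hw h₀]; exact hu.map _)))]
            exact h₀
          have hz0 : (maximalIdeal (X.presheaf.stalk z)).height ≠ 0 := by
            intro h0'
            have h1 := ringKrullDim_stalk_lt (hgen z specializes_rfl) (Ne.symm hzx)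
            rw [← IsLocalRing.maximalIdeal_height_eq_ringKrullDim (R := X.presheaf.stalk z), h0'] at h1
            exact (lt_of_le_of_lt ringKrullDim_nonneg_of_nontrivial h1).false
          obtain ⟨P, hP, hP1⟩ := exists_height_one hz0
          haveI := hP
          obtain ⟨ζ, hζ, rfl⟩ := exists_primeAt_eq z P
          have hdim : ringKrullDim (X.presheaf.stalk ζ) = 1 := by rw [ringKrullDim_eq_height hζ, hP1]; rfl
          have hm : (maximalIdeal (X.presheaf.stalk ζ)).height = 1 := by
            have := IsLocalRing.maximalIdeal_height_eq_ringKrullDim (R := X.presheaf.stalk ζ)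
            rw [hdim] at this
            exact WithBot.coe_eq_coe.1 this
          obtain ⟨t, -, ht⟩ := hone ζ _ hm
          haveI := isDomain_of_principal_height_one hm ht
          have hxζ := hgen ζ hζ
          letI := (sp hxζ).toAlgebra
          haveI := isLocalization_sp hxζ
          exact IsLocalization.isDomain_of_le_nonZeroDivisors (X.presheaf.stalk x)
            (primeAt hxζ).primeCompl_le_nonZeroDivisors
      · obtain ⟨P, hP, hP1⟩ := exists_height_one h0
        haveI := hP
        obtain ⟨t, -, ht⟩ := hone x P hP1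
        exact isDomain_of_principal_height_one hP1 ht
    intro x
    haveI := hdom x
    exact ⟨hdom x, UniqueFactorizationMonoid.of_forall_isPrincipal_of_height_eq_one fun p _ hp =>
      let ⟨t, _, ht⟩ := hone x p hp; ⟨t, ht⟩⟩
  · intro hyp ζ hζ x h
    obtain ⟨_, hu⟩ := hyp x
    have h1 : (primeAt h).height = 1 := by
      have := ringKrullDim_eq_height h
      rw [hζ] at this
      exact (WithBot.coe_eq_coe.1 this).symm
    obtain ⟨t, ht⟩ := UniqueFactorizationMonoid.isPrincipal_of_height_eq_one h1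
    refine ⟨t, mem_nonZeroDivisors_of_ne_zero fun e => ?_, ht⟩
    exact Ideal.ne_bot_of_height_eq_one h1 (ht.trans (by rw [e]; simp))

end Groth.Agent.LocFact12
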